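import Mathlib

/-!
S3344, degree nine: what the Thompson order formula needs. Picture: `V` on `{1,2,3,4}`, `X` on `{5,…,9}`,
`v = (12)(34)`, `s = (12)(34)(56)(78)`.
-/

set_option autoImplicit false

namespace Cfsg.Agent.H14.S3344Rec

/-- The data of the count. -/
structure Count (G : Type*) [Group G] where
  /-- the central involution -/
  s : G
  /-- an involution of the second class -/
  v : G
  /-- the four-group of `C(v)` -/
  V : Subgroup G
  /-- a four-group in `X` -/
  W : Subgroup G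
  /-- the component of `C(v)` -/
  X : Subgroup G
  ord_s : orderOf s = 2
  ord_v : orderOf v = 2
  v_mem : v ∈ V
  V_card : Nat.card V = 4
  V_exp : ∀ a ∈ V, a ^ 2 = 1
  W_card : Nat.card W = 4
  W_le : W ≤ X
  equiv_X : Nonempty (X ≃* alternatingGroup (Fin 5))
  commute_VX : ∀ a ∈ V, ∀ x ∈ X, Commute a x
  disj : Disjoint V X
  cent_V : Subgroup.centralizer (V : Set G) ≤ V ⊔ X
  card_cent : Nat.card (Subgroup.centralizer ({v} : Set G)) = 480
  card_cent_s : Nat.card (Subgroup.centralizer ({s} : Set G)) = 192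
  /-- nothing outside `C(V)` centralises `W` inside `C(v)` -/
  hout : ∀ k : G, k * v = v * k → (∀ w ∈ W, k * w = w * k) → k ∈ Subgroup.centralizer (V : Set G)
  not_conj : ¬ IsConj s v
  classes : ∀ t : G, orderOf t = 2 → IsConj s t ∨ IsConj v t
  hW : ∀ b ∈ W, b ≠ 1 → IsConj v b
  hVW : ∀ a ∈ V, a ≠ 1 → ∀ b ∈ W, b ≠ 1 → IsConj s (a * b)
  hfour : ∀ y : G, orderOf y = 3 → y * s = s * y →
    ¬ 4 ∣ Nat.card (Subgroup.centralizer ({s, y} : Set G))
  pairs_s : Nat.card {p : G × G // IsConj s p.1 ∧ IsConj v p.2 ∧ s ∈ Subgroup.zpowers (p.1 * p.2)} = 156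

end Cfsg.Agent.H14.S3344Rec
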