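import Mathlib

/-!
The finite count behind `a(v) = 555` for `C(v) = (V × A_5).2` inside `Perm 4 × Perm 5`.
-/

set_option autoImplicit false

namespace Cfsg.Agent.H14.S3344Rec

open Equiv

/-- the permutation of `v` on the four cosets -/
def vP : Perm (Fin 4) := swap 0 1 * swap 2 3

/-- the model of the centraliser -/
abbrev InK (m : Perm (Fin 4) × Perm (Fin 5)) : Prop :=
  m.1 * vP = vP * m.1 ∧ Perm.sign m.1 = Perm.sign m.2

/-- involutions of the class of `s` -/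
abbrev STy (m : Perm (Fin 4) × Perm (Fin 5)) : Prop :=
  m.1 * m.1 = 1 ∧ m.2 * m.2 = 1 ∧ Perm.sign m.2 = 1 ∧ m.2 ≠ 1 ∧ m.1 ≠ 1

/-- involutions of the class of `v` -/
abbrev VTy (m : Perm (Fin 4) × Perm (Fin 5)) : Prop :=
  m.1 * m.1 = 1 ∧ m.2 * m.2 = 1 ∧ (m.1 ≠ 1 ∨ m.2 ≠ 1) ∧ ¬ (Perm.sign m.2 = 1 ∧ m.2 ≠ 1 ∧ m.1 ≠ 1)

/-- `v` is a power -/
abbrev VPow (m : Perm (Fin 4) × Perm (Fin 5)) : Prop :=
  (m.1 = vP ∧ m.2 ^ 15 = 1) ∨ (m.1 * m.1 = vP ∧ m.2 ^ 30 = 1)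

set_option maxRecDepth 40000 in
theorem card_inK : (Finset.univ.filter InK).card = 480 := by
  decide +kernel

set_option maxRecDepth 40000 in
/-- the element orders in degree five -/
theorem small_pow : ∀ q : Perm (Fin 5), q ^ 4 = 1 ∨ q ^ 5 = 1 ∨ q ^ 6 = 1 := by
  decide +kernel

theorem pow_fifteen (q : Perm (Fin 5)) : q ^ 15 = 1 ↔ q ^ 3 = 1 ∨ q ^ 5 = 1 := by
  refine ⟨fun h => ?_, ?_⟩
  · rcases small_pow q with h' | h' | h'
    · left
      have : q ^ 16 = 1 := by rw [show (16 : ℕ) = 4 * 4 by norm_num, pow_mul, h', one_pow]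
      rw [pow_succ, h, one_mul] at this
      rw [this, one_pow]
    · exact Or.inr h'
    · left
      have : q ^ 18 = 1 := by rw [show (18 : ℕ) = 6 * 3 by norm_num, pow_mul, h', one_pow]
      rwa [show (18 : ℕ) = 15 + 3 by norm_num, pow_add, h, one_mul] at this
  · rintro (h | h)
    · rw [show (15 : ℕ) = 3 * 5 by norm_num, pow_mul, h, one_pow]
    · rw [show (15 : ℕ) = 5 * 3 by norm_num, pow_mul, h, one_pow]

theorem pow_thirty (q : Perm (Fin 5)) : q ^ 30 = 1 ↔ q ^ 2 = 1 ∨ q ^ 4 ≠ 1 := by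
  refine ⟨fun h => ?_, ?_⟩
  · by_cases h4 : q ^ 4 = 1
    · left
      have : q ^ 32 = 1 := by rw [show (32 : ℕ) = 4 * 8 by norm_num, pow_mul, h4, one_pow]
      rwa [show (32 : ℕ) = 30 + 2 by norm_num, pow_add, h, one_mul] at this
    · exact Or.inr h4
  · rintro (h | h)
    · rw [show (30 : ℕ) = 2 * 15 by norm_num, pow_mul, h, one_pow]
    · rcases small_pow q with h' | h' | h'
      · exact absurd h' h
      · rw [show (30 : ℕ) = 5 * 6 by norm_num, pow_mul, h', one_pow]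
      · rw [show (30 : ℕ) = 6 * 5 by norm_num, pow_mul, h', one_pow]

theorem pow_five (q : Perm (Fin 5)) : q ^ 60 = 1 ∧ (q ^ 30 = 1 ∨ q ^ 15 ≠ 1) := by
  refine ⟨?_, or_iff_not_imp_right.2 fun h => ?_⟩
  · rcases small_pow q with h' | h' | h'
    · rw [show (60 : ℕ) = 4 * 15 by norm_num, pow_mul, h', one_pow]
    · rw [show (60 : ℕ) = 5 * 12 by norm_num, pow_mul, h', one_pow]
    · rw [show (60 : ℕ) = 6 * 10 by norm_num, pow_mul, h', one_pow]
  · rw [show (30 : ℕ) = 15 * 2 by norm_num, pow_mul, not_not.1 h, one_pow]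

/-- involutions and the identity commuting with `vP` -/
def sq4 : Finset (Perm (Fin 4)) := Finset.univ.filter fun a => a * a = 1 ∧ a * vP = vP * a

/-- involutions and the identity of degree five -/
def sq5 : Finset (Perm (Fin 5)) := Finset.univ.filter fun q => q * q = 1

/-- `VPow` with smaller exponents -/
abbrev VPow' (m : Perm (Fin 4) × Perm (Fin 5)) : Prop :=
  (m.1 = vP ∧ (m.2 ^ 3 = 1 ∨ m.2 ^ 5 = 1)) ∨ (m.1 * m.1 = vP ∧ (m.2 ^ 2 = 1 ∨ m.2 ^ 4 ≠ 1))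

set_option maxRecDepth 40000 in
theorem card_pairs' :
    ((((sq4 ×ˢ sq5).filter fun m => InK m ∧ STy m) ×ˢ ((sq4 ×ˢ sq5).filter fun m => InK m ∧ VTy m)).filter
      fun p => VPow' (p.1 * p.2)).card = 555 := by
  decide +kernel

theorem card_pairs :
    (((Finset.univ.filter fun m => InK m ∧ STy m) ×ˢ (Finset.univ.filter fun m => InK m ∧ VTy m)).filter
      fun p => VPow (p.1 * p.2)).card = 555 := by
  rw [← card_pairs']
  refine congrArg Finset.card (Finset.ext fun mn => ?_)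
  obtain ⟨m, n⟩ := mn
  simp only [Finset.mem_filter, Finset.mem_product, Finset.mem_univ, true_and, sq4, sq5, VPow, VPow',
    pow_fifteen, pow_thirty]
  constructor
  · rintro ⟨⟨hm, hn⟩, hp⟩
    exact ⟨⟨⟨⟨⟨hm.2.1, hm.1.1⟩, hm.2.2.1⟩, hm⟩, ⟨⟨⟨hn.2.1, hn.1.1⟩, hn.2.2.1⟩, hn⟩⟩, hp⟩
  · rintro ⟨⟨⟨-, hm⟩, ⟨-, hn⟩⟩, hp⟩
    exact ⟨⟨hm, hn⟩, hp⟩

set_option maxRecDepth 40000 in
theorem pow_four : ∀ p : Perm (Fin 4), p * vP = vP * p → p ^ 4 = 1 := by
  decide +kernel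

set_option maxRecDepth 40000 in
theorem cube_odd : ∀ q : Perm (Fin 5), q * q = 1 → Perm.sign q = -1 →
    ∃ x : Perm (Fin 5), Perm.sign x = 1 ∧ x * x * x = 1 ∧ x ≠ 1 ∧ q * x = x * q := by
  decide +kernel

end Cfsg.Agent.H14.S3344Rec
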