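import Mathlib

/-!
Four-groups and elementary lemmas on conjugation.
-/

set_option autoImplicit false

namespace Cfsg.Agent.H14.S3344Rec

variable {G : Type*} [Group G]

theorem Four.commute {W : Subgroup G} (he : ∀ a ∈ W, a * a = 1) {a b : G} (ha : a ∈ W) (hb : b ∈ W) :
    Commute a b := by
  have hi : ∀ c ∈ W, c⁻¹ = c := fun c hc => inv_eq_of_mul_eq_one_left (he c hc)
  calc a * b = (a * b)⁻¹ := (hi _ (W.mul_mem ha hb)).symm
    _ = b * a := by rw [mul_inv_rev, hi a ha, hi b hb]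

theorem Four.mem_cases {W : Subgroup G} (h4 : Nat.card W = 4) (he : ∀ a ∈ W, a * a = 1) {a b : G}
    (ha : a ∈ W) (ha1 : a ≠ 1) (hb : b ∈ W) (hb1 : b ≠ 1) (hab : a ≠ b) {c : G} (hc : c ∈ W) :
    c = 1 ∨ c = a ∨ c = b ∨ c = a * b := by
  classical
  have : Finite W := Nat.finite_of_card_ne_zero (by omega)
  have hne : a * b ≠ 1 := fun h => hab (eq_inv_of_mul_eq_one_left h ▸
    inv_eq_of_mul_eq_one_left (he b hb))
  have hsub : ({1, a, b, a * b} : Set G) ⊆ W := by
    rintro _ (rfl | rfl | rfl | rfl)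
    exacts [W.one_mem, ha, hb, W.mul_mem ha hb]
  have hc4 : ({1, a, b, a * b} : Set G).ncard = 4 := by
    rw [Set.ncard_insert_of_notMem (by simp [ha1.symm, hb1.symm, hne.symm]),
      Set.ncard_insert_of_notMem (by simp [hab, hb1]),
      Set.ncard_pair (by simp [ha1])]
  have heq := Set.eq_of_subset_of_ncard_le hsub (by
    rw [hc4, ← Nat.card_coe_set_eq]; exact h4.le) (Set.toFinite _)
  have : c ∈ ({1, a, b, a * b} : Set G) := heq ▸ hc
  simpa using this

theorem Four.exists_ne {W : Subgroup G} (h4 : Nat.card W = 4) (a : G) :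
    ∃ b ∈ W, b ≠ 1 ∧ b ≠ a := by
  classical
  have : Finite W := Nat.finite_of_card_ne_zero (by omega)
  by_contra hcon
  have h1 : (W : Set G) ⊆ {1, a} := fun b hb => by
    by_contra hb'
    simp only [Set.mem_insert_iff, Set.mem_singleton_iff, not_or] at hb'
    exact hcon ⟨b, hb, hb'⟩
  have h2 : Nat.card W ≤ 2 := by
    calc Nat.card W = (W : Set G).ncard := Nat.card_coe_set_eq _
      _ ≤ ({1, a} : Set G).ncard := Set.ncard_le_ncard h1 (Set.toFinite _)
      _ ≤ 2 := (Set.ncard_insert_le _ _).trans (by simp)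
  omega

theorem conj_mul' (k a b : G) : k * (a * b) * k⁻¹ = k * a * k⁻¹ * (k * b * k⁻¹) := by group

theorem commute_conj {a b : G} (h : Commute a b) (k : G) :
    Commute (k * a * k⁻¹) (k * b * k⁻¹) := by
  have := h.map (MulAut.conj k)
  simpa using this

theorem sq_one_conj {a : G} (h : a * a = 1) (k : G) : k * a * k⁻¹ * (k * a * k⁻¹) = 1 := by
  rw [← conj_mul', h]; group

theorem cube_conj {a : G} (h : a * a * a = 1) (k : G) :
    k * a * k⁻¹ * (k * a * k⁻¹) * (k * a * k⁻¹) = 1 := by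
  rw [← conj_mul', ← conj_mul', h]; group

theorem conj_ne_one {a : G} (h : a ≠ 1) (k : G) : k * a * k⁻¹ ≠ 1 := by
  simpa using h

theorem inv_of_cube {a : G} (h : a * a * a = 1) : a⁻¹ = a * a :=
  inv_eq_of_mul_eq_one_left h

theorem inv_of_sq {a : G} (h : a * a = 1) : a⁻¹ = a :=
  inv_eq_of_mul_eq_one_left h

theorem eq_one_of_sq_cube {a : G} (h2 : a * a = 1) (h3 : a * a * a = 1) : a = 1 := by
  rwa [h2, one_mul] at h3

end Cfsg.Agent.H14.S3344Rec
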