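import Cfsg.Agent.H14.S3344Rec.Finite
import Cfsg.Agent.S2119

/-!
Facts about a subgroup isomorphic to `A_4` or `A_5`, and the action of its normaliser.
-/

set_option autoImplicit false
set_option linter.unusedSectionVars false
set_option linter.style.haveILetI false

namespace Cfsg.Agent.H14.S3344Rec

open Equiv

variable {G : Type*} [Group G]

/-- alternating of degree four or five -/
def Sm (X : Subgroup G) : Prop :=
  Nonempty (X ≃* alternatingGroup (Fin 4)) ∨ Nonempty (X ≃* alternatingGroup (Fin 5))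

section Model

variable {X : Subgroup G} {n : ℕ} (e : X ≃* alternatingGroup (Fin n))

/-- the permutation of a point of `X` -/
def img : X →* Perm (Fin n) := (alternatingGroup (Fin n)).subtype.comp e.toMonoidHom

theorem img_inj : Function.Injective (img e) :=
  fun _ _ h => e.injective (Subtype.ext h)

theorem img_ev (x : X) : Ev (img e x) := Perm.mem_alternatingGroup.1 (e x).2

theorem img_surj {p : Perm (Fin n)} (hp : Ev p) : ∃ x : X, img e x = p :=
  ⟨e.symm ⟨p, Perm.mem_alternatingGroup.2 hp⟩, by simp [img]⟩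

/-- the action of the normaliser as permutations -/
noncomputable def act (h4 : 4 ≤ n) (h6 : n ≠ 6) :
    Subgroup.normalizer (X : Set G) →* Perm (Fin n) :=
  (MulEquiv.ofBijective (MulAut.conjNormal (H := alternatingGroup (Fin n)))
      (Cfsg.Agent.S2119.result n h4 h6)).symm.toMonoidHom.comp
    ((MulAut.congr e).toMonoidHom.comp X.normalizerMonoidHom)

theorem act_spec (h4 : 4 ≤ n) (h6 : n ≠ 6) (k : Subgroup.normalizer (X : Set G)) (x : X) :
    img e ⟨(k : G) * x * (k : G)⁻¹, (Subgroup.mem_normalizer_iff.1 k.2 x).1 x.2⟩ =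
      act e h4 h6 k * img e x * (act e h4 h6 k)⁻¹ := by
  have h1 : MulAut.conjNormal (act e h4 h6 k) = MulAut.congr e (X.normalizerMonoidHom k) :=
    (MulEquiv.ofBijective (MulAut.conjNormal (H := alternatingGroup (Fin n)))
      (Cfsg.Agent.S2119.result n h4 h6)).apply_symm_apply _
  have h2 := congrArg (fun φ : MulAut (alternatingGroup (Fin n)) => ((φ (e x)) : Perm (Fin n))) h1
  simp only [MulAut.conjNormal_apply] at h2
  refine Eq.trans ?_ h2.symm
  show ((e _ : alternatingGroup (Fin n)) : Perm (Fin n)) =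
    ((e (X.normalizerMonoidHom k (e.symm (e x))) : alternatingGroup (Fin n)) : Perm (Fin n))
  rw [e.symm_apply_apply]
  rfl

theorem act_eq_one (h4 : 4 ≤ n) (h6 : n ≠ 6) {k : Subgroup.normalizer (X : Set G)}
    (hk : act e h4 h6 k = 1) {x : G} (hx : x ∈ X) : Commute (k : G) x := by
  have h := act_spec e h4 h6 k ⟨x, hx⟩
  rw [hk, one_mul, inv_one, mul_one] at h
  exact mul_inv_eq_iff_eq_mul.1 (congrArg Subtype.val (img_inj e h))

theorem img_pow_three {x : X} : img e x * img e x * img e x = 1 ↔ (x : G) * x * x = 1 := by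
  rw [← map_mul, ← map_mul, ← map_one (img e), (img_inj e).eq_iff, Subtype.ext_iff]; rfl

theorem img_sq {x : X} : img e x * img e x = 1 ↔ (x : G) * x = 1 := by
  rw [← map_mul, ← map_one (img e), (img_inj e).eq_iff, Subtype.ext_iff]; rfl

theorem img_ne_one {x : X} : img e x ≠ 1 ↔ (x : G) ≠ 1 := by
  rw [← map_one (img e), (img_inj e).ne_iff, Ne, Subtype.ext_iff]; rfl

theorem img_comm {x y : X} : img e x * img e y = img e y * img e x ↔ Commute (x : G) y := by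
  rw [← map_mul, ← map_mul, (img_inj e).eq_iff, Subtype.ext_iff]; rfl

include e in
theorem cent_inv_aux
    (C : ∀ a : Perm (Fin n), Ev a → a * a = 1 → a ≠ 1 →
      (Finset.univ.filter fun c : Perm (Fin n) => Ev c ∧ c * a = a * c).card = 4)
    {W : Subgroup G} (hW : W ≤ X) (hW4 : Nat.card W = 4) (hWe : ∀ a ∈ W, a * a = 1)
    {a c : G} (ha : a ∈ W) (ha1 : a ≠ 1) (hc : c ∈ X) (hca : Commute c a) : c ∈ W := by
  classical
  let f : W → Perm (Fin n) := fun w => img e ⟨w, hW w.2⟩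
  have hf : Function.Injective f :=
    fun u w h => Subtype.ext (congrArg (fun x : X => (x : G)) (img_inj e h))
  haveI : Finite W := Nat.finite_of_card_ne_zero (by omega)
  haveI := Fintype.ofFinite W
  set A := img e ⟨a, hW ha⟩ with hA
  have hWcomm : ∀ u ∈ W, ∀ w ∈ W, Commute u w := fun u hu w hw => by
    have h1 := hWe u hu
    have h2 := hWe w hw
    have h3 := hWe _ (W.mul_mem hu hw)
    show u * w = w * u
    rw [eq_comm, ← inv_eq_of_mul_eq_one_left h1, ← inv_eq_of_mul_eq_one_left h2, ← mul_inv_rev,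
      inv_eq_of_mul_eq_one_left h3, inv_eq_of_mul_eq_one_left h1, inv_eq_of_mul_eq_one_left h2]
  have hsub : Finset.univ.image f ⊆
      Finset.univ.filter fun p : Perm (Fin n) => Ev p ∧ p * A = A * p := by
    intro p hp
    obtain ⟨w, -, rfl⟩ := Finset.mem_image.1 hp
    exact Finset.mem_filter.2 ⟨Finset.mem_univ _, img_ev e _,
      (img_comm e).2 (hWcomm _ w.2 _ ha)⟩
  have heq := Finset.eq_of_subset_of_card_le hsub (by
    rw [C A (img_ev e _) ((img_sq e).2 (hWe a ha)) ((img_ne_one e).2 ha1),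
      Finset.card_image_of_injective _ hf, Finset.card_univ, ← Nat.card_eq_fintype_card, hW4])
  have hmem : img e ⟨c, hc⟩ ∈ Finset.univ.image f := by
    rw [heq]
    exact Finset.mem_filter.2 ⟨Finset.mem_univ _, img_ev e _, (img_comm e).2 hca⟩
  obtain ⟨w, -, hw⟩ := Finset.mem_image.1 hmem
  have : (w : G) = c := congrArg Subtype.val (img_inj e hw)
  exact this ▸ w.2

include e in
theorem conj_inv_aux
    (F : ∀ a : Perm (Fin n), Ev a → a * a = 1 → a ≠ 1 → ∀ b : Perm (Fin n), Ev b → b * b = 1 →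
      b ≠ 1 → ∃ c : Perm (Fin n), Ev c ∧ c * a = b * c)
    {a b : G} (ha : a ∈ X) (ha2 : a * a = 1) (ha1 : a ≠ 1) (hb : b ∈ X) (hb2 : b * b = 1)
    (hb1 : b ≠ 1) : ∃ c ∈ X, c * a * c⁻¹ = b := by
  obtain ⟨p, hp, he⟩ := F (img e ⟨a, ha⟩) (img_ev e _) ((img_sq e).2 ha2) ((img_ne_one e).2 ha1)
    (img e ⟨b, hb⟩) (img_ev e _) ((img_sq e).2 hb2) ((img_ne_one e).2 hb1)
  obtain ⟨c, rfl⟩ := img_surj e hp
  rw [← map_mul, ← map_mul, (img_inj e).eq_iff] at he
  exact ⟨c, c.2, mul_inv_eq_iff_eq_mul.2 (congrArg Subtype.val he)⟩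

include e in
theorem rot_aux
    (F : ∀ a : Perm (Fin n), Ev a → a * a = 1 → a ≠ 1 → ∀ b : Perm (Fin n), Ev b → b * b = 1 →
      b ≠ 1 → a ≠ b → a * b = b * a →
      ∃ r : Perm (Fin n), Ev r ∧ r * r * r = 1 ∧ r * a = b * r ∧ r * b = a * b * r)
    {a b : G} (ha : a ∈ X) (ha2 : a * a = 1) (ha1 : a ≠ 1) (hb : b ∈ X) (hb2 : b * b = 1)
    (hb1 : b ≠ 1) (hab : a ≠ b) (hc : Commute a b) :
    ∃ r ∈ X, r * r * r = 1 ∧ r * a * r⁻¹ = b ∧ r * b * r⁻¹ = a * b := by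
  obtain ⟨p, hp, h3, h1, h2⟩ := F (img e ⟨a, ha⟩) (img_ev e _) ((img_sq e).2 ha2)
    ((img_ne_one e).2 ha1) (img e ⟨b, hb⟩) (img_ev e _) ((img_sq e).2 hb2)
    ((img_ne_one e).2 hb1) (fun h => hab (congrArg Subtype.val (img_inj e h))) ((img_comm e).2 hc)
  obtain ⟨r, rfl⟩ := img_surj e hp
  rw [← map_mul, ← map_mul, (img_inj e).eq_iff] at h1
  rw [← map_mul, ← map_mul, ← map_mul, (img_inj e).eq_iff] at h2
  exact ⟨r, r.2, (img_pow_three e).1 h3, mul_inv_eq_iff_eq_mul.2 (congrArg Subtype.val h1),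
    mul_inv_eq_iff_eq_mul.2 (congrArg Subtype.val h2)⟩

include e in
theorem gen_aux
    (F : ∀ b : Perm (Fin n), Ev b →
      ∃ a : Perm (Fin n), Ev a ∧ a * a * a = 1 ∧ a * b * (a * b) * (a * b) = 1)
    {b : G} (hb : b ∈ X) : ∃ a ∈ X, a * a * a = 1 ∧ a * b * (a * b) * (a * b) = 1 := by
  obtain ⟨p, hp, h3, h4⟩ := F (img e ⟨b, hb⟩) (img_ev e _)
  obtain ⟨a, rfl⟩ := img_surj e hp
  rw [← map_mul] at h4
  exact ⟨a, a.2, (img_pow_three e).1 h3, (img_pow_three e).1 h4⟩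

include e in
theorem three_aux
    (F : ∀ r : Perm (Fin n), Ev r → r * r * r = 1 → r ≠ 1 →
      ∀ c : Perm (Fin n), Ev c → c * r = r * c → c = 1 ∨ c = r ∨ c = r * r)
    {r c : G} (hr : r ∈ X) (hr3 : r * r * r = 1) (hr1 : r ≠ 1) (hc : c ∈ X) (hcr : Commute c r) :
    c = 1 ∨ c = r ∨ c = r * r := by
  have h := F (img e ⟨r, hr⟩) (img_ev e _) ((img_pow_three e).2 hr3) ((img_ne_one e).2 hr1)
    (img e ⟨c, hc⟩) (img_ev e _) ((img_comm e).2 hcr)
  rw [← map_one (img e), ← map_mul, (img_inj e).eq_iff, (img_inj e).eq_iff, (img_inj e).eq_iff] at h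
  exact h.imp (congrArg Subtype.val) (fun h => h.imp (congrArg Subtype.val) (congrArg Subtype.val))

include e in
theorem fix_aux (h4 : 4 ≤ n) (h6 : n ≠ 6)
    (F : ∀ π : Perm (Fin n), π * π * π = 1 → π ≠ 1 →
      ∀ a : Perm (Fin n), Ev a → a * a = 1 → a ≠ 1 → π * a ≠ a * π)
    {z a : G} (hz : z ∈ Subgroup.normalizer (X : Set G)) (hz3 : z * z * z = 1) (ha : a ∈ X)
    (ha2 : a * a = 1) (ha1 : a ≠ 1) (hza : Commute z a) {x : G} (hx : x ∈ X) : Commute z x := by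
  refine act_eq_one e h4 h6 (k := ⟨z, hz⟩) ?_ hx
  by_contra hne
  refine F (act e h4 h6 ⟨z, hz⟩) ?_ hne (img e ⟨a, ha⟩) (img_ev e _) ((img_sq e).2 ha2)
    ((img_ne_one e).2 ha1) ?_
  · rw [← map_mul, ← map_mul, show (⟨z, hz⟩ : Subgroup.normalizer (X : Set G)) * ⟨z, hz⟩ *
      ⟨z, hz⟩ = 1 from Subtype.ext hz3, map_one]
  · have h := act_spec e h4 h6 ⟨z, hz⟩ ⟨a, ha⟩
    have hval : (⟨z * a * z⁻¹, (Subgroup.mem_normalizer_iff.1 hz a).1 ha⟩ : X) = ⟨a, ha⟩ :=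
      Subtype.ext (mul_inv_eq_iff_eq_mul.2 hza.eq)
    exact (mul_inv_eq_iff_eq_mul.1 ((congrArg (img e) hval).symm.trans h).symm)

end Model

variable {X : Subgroup G}

/-- A four-group of `X` is the centraliser of each of its involutions. -/
theorem Sm.cent_inv (h : Sm X) {W : Subgroup G} (hW : W ≤ X) (hW4 : Nat.card W = 4)
    (hWe : ∀ a ∈ W, a * a = 1) {a c : G} (ha : a ∈ W) (ha1 : a ≠ 1) (hc : c ∈ X)
    (hca : Commute c a) : c ∈ W := by
  rcases h with ⟨⟨e⟩⟩ | ⟨⟨e⟩⟩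
  · exact cent_inv_aux e fact_card4 hW hW4 hWe ha ha1 hc hca
  · exact cent_inv_aux e fact_card5 hW hW4 hWe ha ha1 hc hca

theorem Sm.conj_inv (h : Sm X) {a b : G} (ha : a ∈ X) (ha2 : a * a = 1) (ha1 : a ≠ 1) (hb : b ∈ X)
    (hb2 : b * b = 1) (hb1 : b ≠ 1) : ∃ c ∈ X, c * a * c⁻¹ = b := by
  rcases h with ⟨⟨e⟩⟩ | ⟨⟨e⟩⟩
  · exact conj_inv_aux e fact_conj4 ha ha2 ha1 hb hb2 hb1
  · exact conj_inv_aux e fact_conj5 ha ha2 ha1 hb hb2 hb1

theorem Sm.rot (h : Sm X) {a b : G} (ha : a ∈ X) (ha2 : a * a = 1) (ha1 : a ≠ 1) (hb : b ∈ X)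
    (hb2 : b * b = 1) (hb1 : b ≠ 1) (hab : a ≠ b) (hc : Commute a b) :
    ∃ r ∈ X, r * r * r = 1 ∧ r * a * r⁻¹ = b ∧ r * b * r⁻¹ = a * b := by
  rcases h with ⟨⟨e⟩⟩ | ⟨⟨e⟩⟩
  · exact rot_aux e fact_rot4 ha ha2 ha1 hb hb2 hb1 hab hc
  · exact rot_aux e fact_rot5 ha ha2 ha1 hb hb2 hb1 hab hc

theorem Sm.gen (h : Sm X) {b : G} (hb : b ∈ X) :
    ∃ a ∈ X, a * a * a = 1 ∧ a * b * (a * b) * (a * b) = 1 := by
  rcases h with ⟨⟨e⟩⟩ | ⟨⟨e⟩⟩
  · exact gen_aux e fact_gen4 hb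
  · exact gen_aux e fact_gen5 hb

theorem Sm.three (h : Sm X) {r c : G} (hr : r ∈ X) (hr3 : r * r * r = 1) (hr1 : r ≠ 1) (hc : c ∈ X)
    (hcr : Commute c r) : c = 1 ∨ c = r ∨ c = r * r := by
  rcases h with ⟨⟨e⟩⟩ | ⟨⟨e⟩⟩
  · exact three_aux e fact_three4 hr hr3 hr1 hc hcr
  · exact three_aux e fact_three5 hr hr3 hr1 hc hcr

/-- An element of order three normalising `X` and centralising an involution of it centralises it. -/
theorem Sm.fix (h : Sm X) {z a : G} (hz : z ∈ Subgroup.normalizer (X : Set G))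
    (hz3 : z * z * z = 1) (ha : a ∈ X) (ha2 : a * a = 1) (ha1 : a ≠ 1) (hza : Commute z a)
    {x : G} (hx : x ∈ X) : Commute z x := by
  rcases h with ⟨⟨e⟩⟩ | ⟨⟨e⟩⟩
  · exact fix_aux e le_rfl (by omega) fact_fix4 hz hz3 ha ha2 ha1 hza hx
  · exact fix_aux e (by omega) (by omega) fact_fix5 hz hz3 ha ha2 ha1 hza hx

theorem Sm.ne_of_card (h : Sm X) : Nat.card X = 12 ∨ Nat.card X = 60 := by
  rcases h with ⟨⟨e⟩⟩ | ⟨⟨e⟩⟩ <;> rw [Nat.card_congr e.toEquiv, Nat.card_eq_fintype_card]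
  · exact Or.inl (by decide)
  · exact Or.inr (by decide)

end Cfsg.Agent.H14.S3344Rec
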