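import Cfsg.Agent.H14.S3344Rec.CountData
import Cfsg.Agent.H14.S3344Rec.CountFin
import Cfsg.Agent.H14.S3344Rec.Shape
import Cfsg.Agent.H14.S3344Rec.Four

/-!
The centraliser of `v` embedded in `Perm 4 × Perm 5`.
-/

set_option autoImplicit false
set_option linter.unusedSectionVars false
set_option linter.unusedTactic false
set_option linter.unreachableTactic false
set_option linter.style.haveILetI false

namespace Cfsg.Agent.H14.S3344Rec

open Equiv Subgroup

/-- an isomorphism with `A_5` and the derived homomorphism on the normaliser -/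
theorem act_mem {G : Type*} [Group G] {X : Subgroup G} (e : X ≃* alternatingGroup (Fin 5))
    (k : Subgroup.normalizer (X : Set G)) (p : Perm (Fin 5))
    (h : ∀ x : X, img e ⟨(k : G) * x * (k : G)⁻¹, (Subgroup.mem_normalizer_iff.1 k.2 x).1 x.2⟩ =
      p * img e x * p⁻¹) : act e (by omega) (by omega) k = p := by
  refine (Cfsg.Agent.S2119.result 5 (by omega) (by omega)).1 ?_
  refine MulEquiv.ext fun q => Subtype.ext ?_
  simp only [MulAut.conjNormal_apply]
  have h1 := act_spec e (by omega) (by omega) k (e.symm q)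
  rw [h (e.symm q)] at h1
  simpa [img] using h1.symm

namespace Count

variable {G : Type*} [Group G] [Finite G] (d : Count G)

theorem V_sq {a : G} (ha : a ∈ d.V) : a * a = 1 := by
  have := d.V_exp a ha; rwa [sq] at this

theorem v_sq : d.v * d.v = 1 := d.V_sq d.v_mem

theorem v_ne : d.v ≠ 1 := fun h => by
  have := d.ord_v; rw [h, orderOf_one] at this; omega

theorem V_comm {a b : G} (ha : a ∈ d.V) (hb : b ∈ d.V) : Commute a b :=
  Four.commute (fun _ h => d.V_sq h) ha hb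

/-- the centraliser of `V` -/
abbrev cV : Subgroup G := centralizer (d.V : Set G)

/-- the centraliser of `v` -/
abbrev cv : Subgroup G := centralizer ({d.v} : Set G)

theorem mem_cv {y : G} : y ∈ d.cv ↔ Commute y d.v := mem_centralizer_singleton_iff

theorem commute_cV {y a : G} (hy : y ∈ d.cV) (ha : a ∈ d.V) : Commute a y :=
  mem_centralizer_iff.1 hy a ha

theorem mem_cV_of {y : G} (h : ∀ a ∈ d.V, Commute a y) : y ∈ d.cV :=
  mem_centralizer_iff.2 fun a ha => (h a ha).eq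

theorem V_le_cV : d.V ≤ d.cV := fun _ ha => d.mem_cV_of fun _ hb => d.V_comm hb ha

theorem X_le_cV : d.X ≤ d.cV := fun _ hx => d.mem_cV_of fun a ha => d.commute_VX a ha _ hx

theorem cV_le_cv : d.cV ≤ d.cv := fun _ hy => d.mem_cv.2 (d.commute_cV hy d.v_mem).symm

theorem V_le_cv : d.V ≤ d.cv := d.V_le_cV.trans d.cV_le_cv

theorem X_le_cv : d.X ≤ d.cv := d.X_le_cV.trans d.cV_le_cv

theorem eq_one_of_mem_inf {a : G} (ha : a ∈ d.V) (hx : a ∈ d.X) : a = 1 := by
  have h : a ∈ d.V ⊓ d.X := ⟨ha, hx⟩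
  rwa [d.disj.eq_bot, mem_bot] at h

/-- the product map -/
def vxHom : d.V × d.X →* G :=
  MonoidHom.noncommCoprod d.V.subtype d.X.subtype fun a x => d.commute_VX a a.2 x x.2

theorem vxHom_range : d.vxHom.range = d.cV := by
  refine (MonoidHom.noncommCoprod_range _ _ _).trans ?_
  rw [range_subtype, range_subtype]
  exact le_antisymm (sup_le d.V_le_cV d.X_le_cV) d.cent_V

theorem vxHom_injective : Function.Injective d.vxHom := by
  rw [← MonoidHom.ker_eq_bot_iff, eq_bot_iff]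
  rintro ⟨a, x⟩ h
  have h' : (a : G) * (x : G) = 1 := h
  have ha := d.eq_one_of_mem_inf a.2 (eq_inv_of_mul_eq_one_left h' ▸ d.X.inv_mem x.2)
  rw [ha, one_mul] at h'
  exact mem_bot.2 (Prod.ext (Subtype.ext ha) (Subtype.ext h'))

theorem mem_cV {y : G} (hy : y ∈ d.cV) : ∃ a ∈ d.V, ∃ x ∈ d.X, y = a * x := by
  rw [← d.vxHom_range] at hy
  obtain ⟨⟨a, x⟩, rfl⟩ := hy
  exact ⟨a, a.2, x, x.2, rfl⟩

theorem card_X : Nat.card d.X = 60 := by
  obtain ⟨e⟩ := d.equiv_X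
  rw [Nat.card_congr e.toEquiv, Nat.card_eq_fintype_card]
  decide

theorem index_two : (d.cV.subgroupOf d.cv).index = 2 := by
  have h1 := (d.cV.subgroupOf d.cv).card_mul_index
  have hc : Nat.card d.cV = 240 := by
    rw [← d.vxHom_range, ← Nat.card_congr (MonoidHom.ofInjective d.vxHom_injective).toEquiv,
      Nat.card_prod, d.V_card, d.card_X]
  rw [Nat.card_congr (subgroupOfEquivOfLe d.cV_le_cv).toEquiv, hc, d.card_cent] at h1
  omega

theorem mul_mem_cV {y y' : G} (hy : y ∈ d.cv) (hy' : y' ∈ d.cv) :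
    y * y' ∈ d.cV ↔ (y ∈ d.cV ↔ y' ∈ d.cV) := by
  have := Subgroup.mul_mem_iff_of_index_two d.index_two (a := ⟨y, hy⟩) (b := ⟨y', hy'⟩)
  simpa [mem_subgroupOf] using this

theorem exists_outer : ∃ y ∈ d.cv, y ∉ d.cV := by
  by_contra hcon
  have hle : d.cv ≤ d.cV := fun y hy => by
    by_contra h
    exact hcon ⟨y, hy, h⟩
  have h1 := d.index_two
  rw [subgroupOf_eq_top.2 hle, index_top] at h1
  omega

theorem cv_normalizes {k : G} (hk : k ∈ d.cv) {y : G} (hy : y ∈ d.cV) : k * y * k⁻¹ ∈ d.cV := by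
  have hn : (d.cV.subgroupOf d.cv).Normal := normal_of_index_eq_two d.index_two
  exact hn.conj_mem ⟨y, d.cV_le_cv hy⟩ hy ⟨k, hk⟩

theorem three_mem {y : G} (hy : y ∈ d.cV) (h3 : y * y * y = 1) : y ∈ d.X := by
  obtain ⟨a, ha, x, hx, rfl⟩ := d.mem_cV hy
  have hax : Commute a x := d.commute_VX a ha x hx
  have h : a * (x * x * x) = 1 := by
    have h2 := hax.mul_pow 3
    simp only [pow_succ, pow_zero, one_mul] at h2
    rw [h3, d.V_sq ha, one_mul] at h2
    exact h2.symm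
  have ha1 : a = 1 := d.eq_one_of_mem_inf ha
    (eq_inv_of_mul_eq_one_left h ▸ inv_mem (mul_mem (mul_mem hx hx) hx))
  rw [ha1, one_mul]
  exact hx

theorem cv_normX {k : G} (hk : k ∈ d.cv) {x : G} (hx : x ∈ d.X) : k * x * k⁻¹ ∈ d.X := by
  obtain ⟨a, ha, ha3, hax⟩ := Sm.gen (Or.inr d.equiv_X) hx
  have h1 := d.three_mem (d.cv_normalizes hk (d.X_le_cV ha)) (cube_conj ha3 k)
  have h2 := d.three_mem (d.cv_normalizes hk (mul_mem (d.X_le_cV ha) (d.X_le_cV hx))) (cube_conj hax k)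
  have : k * x * k⁻¹ = (k * a * k⁻¹)⁻¹ * (k * (a * x) * k⁻¹) := by group
  rw [this]
  exact mul_mem (inv_mem h1) h2

theorem cv_le_normalizer : d.cv ≤ normalizer (d.X : Set G) := fun k hk => by
  refine mem_normalizer_iff.2 fun x => ⟨d.cv_normX hk, fun h => ?_⟩
  have := d.cv_normX (inv_mem hk) h
  rwa [inv_inv, show k⁻¹ * (k * x * k⁻¹) * k = x by group] at this

/-- a fixed isomorphism -/
noncomputable def eX : d.X ≃* alternatingGroup (Fin 5) := d.equiv_X.some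

/-- the action on five points -/
noncomputable def q5 : d.cv →* Perm (Fin 5) :=
  (act d.eX (by omega) (by omega)).comp (inclusion d.cv_le_normalizer)

theorem q5_X {x : G} (hx : x ∈ d.X) : d.q5 ⟨x, d.X_le_cv hx⟩ = img d.eX ⟨x, hx⟩ := by
  refine act_mem d.eX _ _ fun y => ?_
  rw [← map_inv, ← map_mul, ← map_mul]
  rfl

theorem q5_V {a : G} (ha : a ∈ d.V) : d.q5 ⟨a, d.V_le_cv ha⟩ = 1 := by
  refine act_mem d.eX _ _ fun y => ?_
  rw [one_mul, inv_one, mul_one]
  congr 1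
  exact Subtype.ext (mul_inv_eq_iff_eq_mul.2 (d.commute_VX a ha y y.2).eq)

theorem q5_mul {y : d.cv} {a x : G} (ha : a ∈ d.V) (hx : x ∈ d.X) (h : (y : G) = a * x) :
    d.q5 y = img d.eX ⟨x, hx⟩ := by
  rw [show y = ⟨a, d.V_le_cv ha⟩ * ⟨x, d.X_le_cv hx⟩ from Subtype.ext h, map_mul, d.q5_V ha,
    d.q5_X hx, one_mul]

theorem sign_q5_inner {y : d.cv} (h : (y : G) ∈ d.cV) : Perm.sign (d.q5 y) = 1 := by
  obtain ⟨a, ha, x, hx, he⟩ := d.mem_cV h
  rw [d.q5_mul ha hx he]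
  exact img_ev _ _

theorem sign_q5_outer {y : d.cv} (h : (y : G) ∉ d.cV) : Perm.sign (d.q5 y) = -1 := by
  rcases Int.units_eq_one_or (Perm.sign (d.q5 y)) with hs | hs
  · exfalso
    obtain ⟨⟨x, hx⟩, hxe⟩ := img_surj d.eX (show Ev (d.q5 y) from hs)
    set k : d.cv := ⟨x, d.X_le_cv hx⟩⁻¹ * y with hk
    have hk1 : d.q5 k = 1 := by rw [hk, map_mul, map_inv, d.q5_X hx, hxe, inv_mul_cancel]
    have hkc : (k : G) ∈ d.cV := d.hout k (d.mem_cv.1 k.2).eq fun w hw =>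
      (act_eq_one d.eX (by omega) (by omega)
        (k := inclusion d.cv_le_normalizer k) hk1 (d.W_le hw)).eq
    apply h
    have e : (y : G) = x * (k : G) := by rw [hk]; simp
    rw [e]
    exact mul_mem (d.X_le_cV hx) hkc
  · exact hs

theorem q5_eq_one {y : d.cv} (h : d.q5 y = 1) : (y : G) ∈ d.V := by
  have hc : (y : G) ∈ d.cV := by
    by_contra hc
    have := d.sign_q5_outer hc
    rw [h, map_one] at this
    exact absurd this (by decide)
  obtain ⟨a, ha, x, hx, he⟩ := d.mem_cV hc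
  rw [d.q5_mul ha hx he, ← map_one (img d.eX), (img_inj _).eq_iff] at h
  have hx1 : x = 1 := congrArg Subtype.val h
  rw [he, hx1, mul_one]
  exact ha

theorem cv_normV {k : G} (hk : k ∈ d.cv) {a : G} (ha : a ∈ d.V) : k * a * k⁻¹ ∈ d.V := by
  refine d.q5_eq_one (y := ⟨k, hk⟩ * ⟨a, d.V_le_cv ha⟩ * ⟨k, hk⟩⁻¹) ?_
  rw [map_mul, map_mul, map_inv, d.q5_V ha, mul_one, mul_inv_cancel]

/-- the second generator of `V` -/
noncomputable def u : G := (Four.exists_ne d.V_card d.v).choose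

theorem u_mem : d.u ∈ d.V := (Four.exists_ne d.V_card d.v).choose_spec.1

theorem u_ne : d.u ≠ 1 := (Four.exists_ne d.V_card d.v).choose_spec.2.1

theorem u_ne_v : d.u ≠ d.v := (Four.exists_ne d.V_card d.v).choose_spec.2.2

theorem V_cases {a : G} (ha : a ∈ d.V) : a = 1 ∨ a = d.v ∨ a = d.u ∨ a = d.v * d.u :=
  Four.mem_cases d.V_card (fun _ h => d.V_sq h) d.v_mem d.v_ne d.u_mem d.u_ne d.u_ne_v.symm ha

theorem exists_h : ∃ h : G, h ∈ d.cv ∧ h ∉ d.cV ∧ h * h = 1 ∧ h * d.u * h⁻¹ = d.v * d.u := by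
  obtain ⟨k, hk, hk'⟩ := d.exists_outer
  have hev : Ev (Equiv.swap (0 : Fin 5) 1 * (d.q5 ⟨k, hk⟩)⁻¹) := by
    show Perm.sign _ = 1
    rw [map_mul, map_inv, d.sign_q5_outer (y := ⟨k, hk⟩) hk', Perm.sign_swap (by decide)]
    decide
  obtain ⟨⟨x, hx⟩, hxe⟩ := img_surj d.eX hev
  set k1 : d.cv := ⟨x, d.X_le_cv hx⟩ * ⟨k, hk⟩ with hk1
  have hk1o : (k1 : G) ∉ d.cV := fun h =>
    hk' (((d.mul_mem_cV (d.X_le_cv hx) hk).1 h).1 (d.X_le_cV hx))
  have hq : d.q5 k1 = Equiv.swap 0 1 := by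
    rw [hk1, map_mul, d.q5_X hx, hxe, inv_mul_cancel_right]
  have hsq : (k1 : G) * k1 ∈ d.V := d.q5_eq_one (y := k1 * k1) (by
    rw [map_mul, hq, Equiv.swap_mul_self])
  have hku : (k1 : G) * d.u * (k1 : G)⁻¹ = d.v * d.u := by
    rcases d.V_cases (d.cv_normV k1.2 d.u_mem) with h | h | h | h
    · exact absurd h (conj_ne_one d.u_ne _)
    · exfalso
      apply d.u_ne_v
      have hv : (k1 : G) * d.v * (k1 : G)⁻¹ = d.v :=
        mul_inv_eq_iff_eq_mul.2 (d.mem_cv.1 k1.2).eq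
      exact mul_left_cancel (mul_right_cancel (h.trans hv.symm))
    · exfalso
      refine hk1o (d.mem_cV_of fun a ha => ?_)
      have hc : Commute (k1 : G) d.u := mul_inv_eq_iff_eq_mul.1 h
      rcases d.V_cases ha with rfl | rfl | rfl | rfl
      exacts [Commute.one_left _, (d.mem_cv.1 k1.2).symm, hc.symm,
        ((d.mem_cv.1 k1.2).mul_right hc).symm]
    · exact h
  have hcomm : Commute (k1 : G) ((k1 : G) * k1) := (Commute.refl _).mul_right (Commute.refl _)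
  have hne : d.v * d.u ≠ d.u := fun h => d.v_ne (mul_eq_right.1 h)
  rcases d.V_cases hsq with h | h | h | h
  · exact ⟨k1, k1.2, hk1o, h, hku⟩
  · refine ⟨d.u * k1, mul_mem (d.V_le_cv d.u_mem) k1.2, fun hc => hk1o ?_, ?_, ?_⟩
    · have := mul_mem (inv_mem (d.V_le_cV d.u_mem)) hc
      rwa [inv_mul_cancel_left] at this
    · calc d.u * k1 * (d.u * k1) = d.u * ((k1 : G) * d.u * (k1 : G)⁻¹) * ((k1 : G) * k1) := by group
        _ = d.u * (d.v * d.u) * d.v := by rw [hku, h]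
        _ = d.u * d.u * (d.v * d.v) := by
          rw [(d.V_comm d.v_mem d.u_mem).eq, ← mul_assoc, mul_assoc (d.u * d.u) d.v]
        _ = 1 := by rw [d.V_sq d.u_mem, d.v_sq, one_mul]
    · calc d.u * k1 * d.u * (d.u * k1)⁻¹ = d.u * ((k1 : G) * d.u * (k1 : G)⁻¹) * d.u⁻¹ := by group
        _ = d.v * d.u := by
          rw [hku]
          exact mul_inv_eq_iff_eq_mul.2 (d.V_comm d.u_mem (mul_mem d.v_mem d.u_mem)).eq
  · rw [h] at hcomm
    exact absurd ((mul_inv_eq_iff_eq_mul.2 hcomm.eq).symm.trans hku).symm hne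
  · exfalso
    rw [h] at hcomm
    have hcu : Commute (k1 : G) d.u := by
      have := (d.mem_cv.1 k1.2).inv_right.mul_right hcomm
      rwa [inv_mul_cancel_left] at this
    exact hne ((mul_inv_eq_iff_eq_mul.2 hcu.eq).symm.trans hku).symm

/-- the outer involution -/
noncomputable def t : G := d.exists_h.choose

theorem t_mem : d.t ∈ d.cv := d.exists_h.choose_spec.1

theorem t_out : d.t ∉ d.cV := d.exists_h.choose_spec.2.1

theorem t_sq : d.t * d.t = 1 := d.exists_h.choose_spec.2.2.1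

theorem t_u : d.t * d.u * d.t⁻¹ = d.v * d.u := d.exists_h.choose_spec.2.2.2

/-- `X ∪ X t` -/
noncomputable def xt : Subgroup d.cv where
  carrier := {y | (y : G) ∈ d.X ∨ (y : G) * d.t ∈ d.X}
  one_mem' := Or.inl (one_mem _)
  inv_mem' := by
    rintro y (h | h)
    · exact Or.inl (inv_mem h)
    · refine Or.inr ?_
      have := d.cv_normX d.t_mem (inv_mem h)
      convert this using 1
      rw [inv_of_sq d.t_sq]
      show (y : G)⁻¹ * d.t = _
      rw [mul_inv_rev, inv_of_sq d.t_sq, ← mul_assoc d.t d.t, d.t_sq, one_mul]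
  mul_mem' := by
    have htn : ∀ x ∈ d.X, d.t * x * d.t ∈ d.X := fun x hx => by
      have := d.cv_normX d.t_mem hx
      rwa [inv_of_sq d.t_sq] at this
    rintro y y' (h | h) (h' | h')
    · exact Or.inl (mul_mem h h')
    · refine Or.inr ?_
      show (y : G) * y' * d.t ∈ d.X
      rw [mul_assoc]
      exact mul_mem h h'
    · refine Or.inr ?_
      show (y : G) * y' * d.t ∈ d.X
      have := mul_mem h (htn _ h')
      rwa [show (y : G) * d.t * (d.t * y' * d.t) = (y : G) * (d.t * d.t) * y' * d.t by group,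
        d.t_sq, mul_one] at this
    · refine Or.inl ?_
      show (y : G) * y' ∈ d.X
      have := mul_mem h (htn _ h')
      rwa [show (y : G) * d.t * (d.t * (y' * d.t) * d.t) = (y : G) * (d.t * d.t) * y' * (d.t * d.t)
        by group, d.t_sq, mul_one, mul_one] at this

/-- the labels -/
noncomputable def lab (i : Fin 4) : G := ![1, d.v, d.u, d.v * d.u] i

theorem lab_mem (i : Fin 4) : d.lab i ∈ d.V := by
  fin_cases i <;> simp [lab, d.V.one_mem, d.v_mem, d.u_mem, mul_mem d.v_mem d.u_mem]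

/-- the coset of a label -/
noncomputable def point (i : Fin 4) : d.cv ⧸ d.xt :=
  QuotientGroup.mk ⟨d.lab i, d.V_le_cv (d.lab_mem i)⟩

theorem mk_eq_of {y : d.cv} {a : G} (ha : a ∈ d.V)
    (h : a⁻¹ * (y : G) ∈ d.X ∨ a⁻¹ * (y : G) * d.t ∈ d.X) :
    (QuotientGroup.mk y : d.cv ⧸ d.xt) = QuotientGroup.mk ⟨a, d.V_le_cv ha⟩ :=
  (QuotientGroup.eq.2 h).symm

theorem V_mk_inj {a b : G} (ha : a ∈ d.V) (hb : b ∈ d.V)
    (h : (QuotientGroup.mk ⟨a, d.V_le_cv ha⟩ : d.cv ⧸ d.xt) = QuotientGroup.mk ⟨b, d.V_le_cv hb⟩) :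
    a = b := by
  rcases (QuotientGroup.eq.1 h : _ ∈ d.xt) with h | h
  · exact inv_mul_eq_one.1 (d.eq_one_of_mem_inf (mul_mem (inv_mem ha) hb) h)
  · refine absurd ?_ d.t_out
    have h' : a⁻¹ * b * d.t ∈ d.X := h
    have := mul_mem (inv_mem (d.V_le_cV (mul_mem (inv_mem ha) hb))) (d.X_le_cV h')
    rwa [inv_mul_cancel_left] at this

theorem lab_inj : Function.Injective d.lab := by
  have h1 : d.v * d.u ≠ 1 := fun h => d.u_ne_v (inv_eq_of_mul_eq_one_right h ▸ inv_of_sq d.v_sq)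
  have h2 : d.v * d.u ≠ d.v := fun h => d.u_ne (mul_eq_left.1 h)
  have h3 : d.v * d.u ≠ d.u := fun h => d.v_ne (mul_eq_right.1 h)
  intro i j h
  fin_cases i <;> fin_cases j <;> first
    | rfl
    | (exfalso; simp [lab] at h; first
        | exact d.v_ne h | exact d.v_ne h.symm | exact d.u_ne h | exact d.u_ne h.symm
        | exact d.u_ne_v h | exact d.u_ne_v h.symm | exact h1 h | exact h1 h.symm
        | exact h2 h | exact h2 h.symm | exact h3 h | exact h3 h.symm)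


theorem point_bijective : Function.Bijective d.point := by
  refine ⟨fun i j h => d.lab_inj (d.V_mk_inj (d.lab_mem i) (d.lab_mem j) h), fun c => ?_⟩
  obtain ⟨y, rfl⟩ := QuotientGroup.mk_surjective c
  have key : ∃ a ∈ d.V, a⁻¹ * (y : G) ∈ d.X ∨ a⁻¹ * (y : G) * d.t ∈ d.X := by
    by_cases hy : (y : G) ∈ d.cV
    · obtain ⟨a, ha, x, hx, he⟩ := d.mem_cV hy
      exact ⟨a, ha, Or.inl (by rw [he, inv_mul_cancel_left]; exact hx)⟩
    · obtain ⟨a, ha, x, hx, he⟩ := d.mem_cV ((d.mul_mem_cV y.2 d.t_mem).2 (iff_of_false hy d.t_out))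
      exact ⟨a, ha, Or.inr (by rw [mul_assoc, he, inv_mul_cancel_left]; exact hx)⟩
  obtain ⟨a, ha, hc⟩ := key
  obtain ⟨i, hi⟩ : ∃ i, d.lab i = a := by
    rcases d.V_cases ha with h | h | h | h
    exacts [⟨0, h.symm⟩, ⟨1, h.symm⟩, ⟨2, h.symm⟩, ⟨3, h.symm⟩]
  subst hi
  exact ⟨i, (d.mk_eq_of ha hc).symm⟩

/-- the action on four points -/
noncomputable def p4 : d.cv →* Perm (Fin 4) :=
  (Equiv.ofBijective _ d.point_bijective).symm.permCongrHom.toMonoidHom.comp
    (MulAction.toPermHom d.cv (d.cv ⧸ d.xt))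

theorem p4_point (y : d.cv) (i : Fin 4) : d.point (d.p4 y i) = y • d.point i := by
  have h : ∀ c, d.point ((Equiv.ofBijective _ d.point_bijective).symm c) = c :=
    (Equiv.ofBijective _ d.point_bijective).apply_symm_apply
  exact h _

theorem p4_eq {y : d.cv} {p : Perm (Fin 4)} (h : ∀ i, y • d.point i = d.point (p i)) : d.p4 y = p :=
  Equiv.ext fun i => d.point_bijective.1 ((d.p4_point y i).trans (h i))

theorem p4_X {x : G} (hx : x ∈ d.X) : d.p4 ⟨x, d.X_le_cv hx⟩ = 1 := by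
  refine d.p4_eq fun i => ?_
  refine d.mk_eq_of (d.lab_mem i) (Or.inl ?_)
  show (d.lab i)⁻¹ * (x * d.lab i) ∈ d.X
  rw [← (d.commute_VX _ (d.lab_mem i) x hx).eq, inv_mul_cancel_left]
  exact hx

theorem p4_v : d.p4 ⟨d.v, d.V_le_cv d.v_mem⟩ = vP := by
  refine d.p4_eq fun i => congrArg _ (Subtype.ext ?_)
  show d.v * d.lab i = d.lab (vP i)
  fin_cases i <;> simp [lab, vP, d.v_sq, Equiv.swap_apply_def, ← mul_assoc]

theorem p4_u : d.p4 ⟨d.u, d.V_le_cv d.u_mem⟩ = Equiv.swap 0 2 * Equiv.swap 1 3 := by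
  refine d.p4_eq fun i => congrArg _ (Subtype.ext ?_)
  show d.u * d.lab i = d.lab ((Equiv.swap 0 2 * Equiv.swap 1 3 : Perm (Fin 4)) i)
  have h1 := (d.V_comm d.u_mem d.v_mem).eq
  have h2 := d.V_sq d.u_mem
  fin_cases i <;> simp [lab, Equiv.swap_apply_def, h1, h2]
  rw [← mul_assoc, h1, mul_assoc, h2, mul_one]

theorem p4_t : d.p4 ⟨d.t, d.t_mem⟩ = Equiv.swap 2 3 := by
  refine d.p4_eq fun i => d.mk_eq_of (d.lab_mem _) (Or.inr ?_)
  show (d.lab ((Equiv.swap 2 3 : Perm (Fin 4)) i))⁻¹ * (d.t * d.lab i) * d.t ∈ d.X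
  have hv : d.t * d.v * d.t⁻¹ = d.v := mul_inv_eq_iff_eq_mul.2 (d.mem_cv.1 d.t_mem).eq
  have key : ∀ a b : G, d.t * a * d.t⁻¹ = b → b⁻¹ * (d.t * a) * d.t ∈ d.X := fun a b h => by
    rw [← h, show (d.t * a * d.t⁻¹)⁻¹ * (d.t * a) * d.t = d.t * d.t by group, d.t_sq]
    exact one_mem _
  apply key
  fin_cases i
  · show d.t * 1 * d.t⁻¹ = 1
    group
  · exact hv
  · exact d.t_u
  · show d.t * (d.v * d.u) * d.t⁻¹ = d.u
    rw [conj_mul', hv, d.t_u, ← mul_assoc, d.v_sq, one_mul]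

theorem p4_V {a : G} (ha : a ∈ d.V) :
    Perm.sign (d.p4 ⟨a, d.V_le_cv ha⟩) = 1 ∧ (d.p4 ⟨a, d.V_le_cv ha⟩ = 1 → a = 1) := by
  refine ⟨?_, fun h => ?_⟩
  · rcases d.V_cases ha with rfl | rfl | rfl | rfl
    · rw [show (⟨1, _⟩ : d.cv) = 1 from rfl, map_one, map_one]
    · rw [d.p4_v]; decide
    · rw [d.p4_u]; decide
    · rw [show (⟨d.v * d.u, _⟩ : d.cv) = ⟨d.v, d.V_le_cv d.v_mem⟩ * ⟨d.u, d.V_le_cv d.u_mem⟩ from rfl,
        map_mul, d.p4_v, d.p4_u]
      decide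
  · have h0 := d.p4_point ⟨a, d.V_le_cv ha⟩ 0
    rw [h] at h0
    refine d.V_mk_inj ha (one_mem _) ?_
    have e : ((⟨a, d.V_le_cv ha⟩ : d.cv) • d.point 0 : d.cv ⧸ d.xt) = QuotientGroup.mk ⟨a, d.V_le_cv ha⟩ :=
      congrArg _ (Subtype.ext (show a * d.lab 0 = a by simp [lab]))
    exact e.symm.trans h0.symm

/-- the embedding -/
noncomputable def psi : d.cv →* Perm (Fin 4) × Perm (Fin 5) := d.p4.prod d.q5

theorem psi_inner {y : d.cv} {a x : G} (ha : a ∈ d.V) (hx : x ∈ d.X) (h : (y : G) = a * x) :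
    d.psi y = (d.p4 ⟨a, d.V_le_cv ha⟩, img d.eX ⟨x, hx⟩) := by
  refine Prod.ext ?_ (d.q5_mul ha hx h)
  show d.p4 y = _
  rw [show y = ⟨a, d.V_le_cv ha⟩ * ⟨x, d.X_le_cv hx⟩ from Subtype.ext h, map_mul, d.p4_X hx, mul_one]

theorem psi_v : d.psi ⟨d.v, d.V_le_cv d.v_mem⟩ = (vP, 1) :=
  Prod.ext d.p4_v (d.q5_V d.v_mem)

theorem psi_injective : Function.Injective d.psi := by
  rw [← MonoidHom.ker_eq_bot_iff, eq_bot_iff]
  intro y hy
  have h1 : d.p4 y = 1 := congrArg Prod.fst hy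
  have h2 : d.q5 y = 1 := congrArg Prod.snd hy
  exact mem_bot.2 (Subtype.ext ((d.p4_V (d.q5_eq_one h2)).2 h1))

theorem psi_inK (y : d.cv) : InK (d.psi y) := by
  refine ⟨?_, ?_⟩
  · have h : Commute y ⟨d.v, d.V_le_cv d.v_mem⟩ := Subtype.ext (d.mem_cv.1 y.2).eq
    have := h.map d.p4
    rw [d.p4_v] at this
    exact this.eq
  · show Perm.sign (d.p4 y) = Perm.sign (d.q5 y)
    by_cases hy : (y : G) ∈ d.cV
    · obtain ⟨a, ha, x, hx, he⟩ := d.mem_cV hy
      have h1 := congrArg Prod.fst (d.psi_inner ha hx he)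
      change d.p4 y = _ at h1
      rw [h1, (d.p4_V ha).1, d.sign_q5_inner hy]
    · obtain ⟨a, ha, x, hx, he⟩ := d.mem_cV ((d.mul_mem_cV y.2 d.t_mem).2 (iff_of_false hy d.t_out))
      have h1 := congrArg Prod.fst (d.psi_inner (y := y * ⟨d.t, d.t_mem⟩) ha hx he)
      change d.p4 (y * ⟨d.t, d.t_mem⟩) = _ at h1
      have h2 := congrArg Perm.sign h1
      rw [map_mul d.p4, map_mul, d.p4_t, (d.p4_V ha).1, Perm.sign_swap (by decide)] at h2
      rw [d.sign_q5_outer hy]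
      rcases Int.units_eq_one_or (Perm.sign (d.p4 y)) with e | e
      · rw [e] at h2; exact absurd h2 (by decide)
      · exact e

theorem psi_surj {m : Perm (Fin 4) × Perm (Fin 5)} (hm : InK m) : ∃ y, d.psi y = m := by
  classical
  haveI := Fintype.ofFinite d.cv
  have hsub : Finset.univ.image d.psi ⊆ Finset.univ.filter InK := by
    intro m hm
    obtain ⟨y, -, rfl⟩ := Finset.mem_image.1 hm
    exact Finset.mem_filter.2 ⟨Finset.mem_univ _, d.psi_inK y⟩
  have heq := Finset.eq_of_subset_of_card_le hsub (by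
    rw [Finset.card_image_of_injective _ d.psi_injective, Finset.card_univ, card_inK,
      ← Nat.card_eq_fintype_card, d.card_cent])
  have : m ∈ Finset.univ.image d.psi := by rw [heq]; exact Finset.mem_filter.2 ⟨Finset.mem_univ _, hm⟩
  obtain ⟨y, -, hy⟩ := Finset.mem_image.1 this
  exact ⟨y, hy⟩

end Count

end Cfsg.Agent.H14.S3344Rec
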