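import Cfsg.Agent.H14.S3344Rec.CountLocal
import Cfsg.Agent.S0213

/-!
The order of the group in degree nine: `|G| = 480 · 156 + 192 · 555 = 181440`.
-/

set_option autoImplicit false
set_option linter.unusedSectionVars false
set_option linter.style.haveILetI false

namespace Cfsg.Agent.H14.S3344Rec

open Equiv Subgroup

/-- A power of `(p, q)` equals `(vP, 1)` exactly when `VPow` holds. -/
theorem vpow_iff {p : Perm (Fin 4)} {q : Perm (Fin 5)} (hp : p * vP = vP * p) :
    (∃ k : ℕ, (p, q) ^ k = (vP, 1)) ↔ VPow (p, q) := by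
  have hv : vP * vP = 1 := by decide
  have hv1 : vP ≠ 1 := by decide
  have hv15 : vP ^ 15 = vP := by
    rw [show (15 : ℕ) = 2 * 7 + 1 by norm_num, pow_succ, pow_mul, sq, hv, one_pow, one_mul]
  have h4 := pow_four p hp
  have h60 := (pow_five q).1
  have gcd : ∀ {k m : ℕ}, q ^ k = 1 → Nat.gcd k 60 ∣ m → q ^ m = 1 := by
    intro k m hk hd
    refine orderOf_dvd_iff_pow_eq_one.1 (Dvd.dvd.trans ?_ hd)
    exact Nat.dvd_gcd (orderOf_dvd_iff_pow_eq_one.2 hk) (orderOf_dvd_iff_pow_eq_one.2 h60)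
  constructor
  · rintro ⟨k, hk⟩
    rw [Prod.pow_mk, Prod.mk.injEq] at hk
    obtain ⟨hkp, hkq⟩ := hk
    rcases Nat.even_or_odd k with ⟨j, hj⟩ | hodd
    · subst hj
      have hj2 : (p * p) ^ j = vP := by rw [← hkp, ← two_mul, pow_mul, sq]
      have hpp : (p * p) ^ 2 = 1 := by
        rw [sq, ← h4]
        simp [pow_succ, mul_assoc]
      rcases Nat.even_or_odd j with ⟨i, hi⟩ | ⟨i, hi⟩
      · exfalso
        apply hv1
        rw [← hj2, hi, ← two_mul, pow_mul, hpp, one_pow]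
      · refine Or.inr ⟨?_, gcd hkq ?_⟩
        · rw [← hj2, hi, pow_succ, pow_mul, hpp, one_pow, one_mul]
        · -- twice an odd number
          have hg := Nat.gcd_dvd_right (j + j) 60
          have hg' := Nat.gcd_dvd_left (j + j) 60
          have hle := Nat.le_of_dvd (by norm_num) hg
          revert hg hg'
          generalize Nat.gcd (j + j) 60 = g at *
          intro hg hg'
          have h4' : ¬ 4 ∣ g := fun h => by
            have := h.trans hg'
            omega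
          revert h4' hg
          interval_cases g <;> decide
    · refine Or.inl ⟨?_, gcd hkq ?_⟩
      · obtain ⟨i, rfl⟩ := hodd
        calc p = p ^ ((2 * i + 1) * (2 * i + 1)) := by
              rw [show (2 * i + 1) * (2 * i + 1) = 4 * (i * i + i) + 1 by ring, pow_succ, pow_mul, h4,
                one_pow, one_mul]
          _ = vP ^ (2 * i + 1) := by rw [pow_mul, hkp]
          _ = vP := by rw [pow_succ, pow_mul, sq, hv, one_pow, one_mul]
      · have hg := Nat.gcd_dvd_right k 60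
        have hg' := Nat.gcd_dvd_left k 60
        have hle := Nat.le_of_dvd (by norm_num) hg
        revert hg hg'
        generalize Nat.gcd k 60 = g at *
        intro hg hg'
        have h2 : ¬ 2 ∣ g := fun h => by
          have := h.trans hg'
          rcases hodd with ⟨i, rfl⟩
          omega
        revert h2 hg
        interval_cases g <;> decide
  · rintro (⟨h1, h2⟩ | ⟨h1, h2⟩)
    · refine ⟨15, ?_⟩
      rw [Prod.pow_mk, h2]
      have h1' : p = vP := h1
      rw [h1', hv15]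
    · refine ⟨30, ?_⟩
      rw [Prod.pow_mk, h2, show (30 : ℕ) = 2 * 15 by norm_num, pow_mul, sq]
      have h1' : p * p = vP := h1
      rw [h1', hv15]

theorem four_dvd {G : Type*} [Group G] [Finite G] {K : Subgroup G} {a b : G} (ha : a ∈ K) (hb : b ∈ K)
    (ha2 : a * a = 1) (ha1 : a ≠ 1) (hb2 : b * b = 1) (hb1 : b ≠ 1) (hab : a ≠ b) (hc : Commute a b) :
    4 ∣ Nat.card K := by
  haveI : Fact (Nat.Prime 2) := ⟨Nat.prime_two⟩
  let f := MonoidHom.noncommCoprod (zpowers a).subtype (zpowers b).subtype fun x y => by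
    obtain ⟨i, hi⟩ := mem_zpowers_iff.1 x.2
    obtain ⟨j, hj⟩ := mem_zpowers_iff.1 y.2
    show Commute (x : G) y
    rw [← hi, ← hj]
    exact hc.zpow_zpow i j
  have hoa : orderOf a = 2 := orderOf_eq_prime (by rw [sq, ha2]) ha1
  have hob : orderOf b = 2 := orderOf_eq_prime (by rw [sq, hb2]) hb1
  have hcard : Nat.card (zpowers a × zpowers b) = 4 := by
    rw [Nat.card_prod, Nat.card_zpowers, Nat.card_zpowers, hoa, hob]
  have hinj : Function.Injective f := by
    rw [← MonoidHom.ker_eq_bot_iff, eq_bot_iff]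
    rintro ⟨x, y⟩ h
    have h' : (x : G) * y = 1 := h
    have two : ∀ {c : G}, c * c = 1 → ∀ z ∈ zpowers c, z = 1 ∨ z = c := by
      intro c hc2 z hz
      obtain ⟨i, rfl⟩ := mem_zpowers_iff.1 hz
      rcases Int.even_or_odd i with ⟨j, rfl⟩ | ⟨j, rfl⟩
      · exact Or.inl (by rw [zpow_add, ← Commute.mul_zpow (Commute.refl c), hc2, one_zpow])
      · exact Or.inr (by rw [zpow_add, zpow_mul, zpow_one, show c ^ (2 : ℤ) = 1 by
          rw [zpow_two, hc2], one_zpow, one_mul])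
    rcases two ha2 x x.2 with hx | hx <;> rcases two hb2 y y.2 with hy | hy <;> rw [hx, hy] at h'
    · exact mem_bot.2 (Prod.ext (Subtype.ext hx) (Subtype.ext hy))
    · exact absurd (by rwa [one_mul] at h') hb1
    · exact absurd (by rwa [mul_one] at h') ha1
    · exact absurd (eq_inv_of_mul_eq_one_left h' |>.trans (inv_of_sq hb2)) hab
  rw [← hcard, Nat.card_congr (MonoidHom.ofInjective hinj).toEquiv]
  refine card_dvd_of_le ?_
  rw [MonoidHom.noncommCoprod_range, range_subtype, range_subtype]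
  exact sup_le ((zpowers_le).2 ha) ((zpowers_le).2 hb)

namespace Count

variable {G : Type*} [Group G] [Finite G] (d : Count G)

theorem not_conj_s {y r : G} (hy : y * y = 1) (hy1 : y ≠ 1) (hr : orderOf r = 3) (hyr : Commute y r)
    {a b : G} (ha2 : a * a = 1) (ha1 : a ≠ 1) (hb2 : b * b = 1) (hb1 : b ≠ 1) (hab : a ≠ b)
    (hc : Commute a b) (hay : Commute a y) (har : Commute a r) (hby : Commute b y) (hbr : Commute b r) :
    IsConj d.v y := by
  refine (d.classes y (orderOf_eq_prime (by rw [sq, hy]) hy1)).resolve_left fun h => ?_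
  obtain ⟨c, hcs⟩ := isConj_iff.1 h.symm
  refine d.hfour (c * r * c⁻¹) (((MulEquiv.orderOf_eq (MulAut.conj c) r).trans hr :)) ?_ ?_
  · rw [← hcs]; exact (commute_conj hyr.symm c).eq
  · refine four_dvd (a := c * a * c⁻¹) (b := c * b * c⁻¹) ?_ ?_ (sq_one_conj ha2 c) (conj_ne_one ha1 c)
      (sq_one_conj hb2 c) (conj_ne_one hb1 c) (fun e => hab (mul_left_cancel (mul_right_cancel e)))
      (commute_conj hc c)
    all_goals
      refine mem_centralizer_iff.2 ?_
      rintro z (rfl | rfl)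
    · rw [← hcs]; exact (commute_conj hay c).symm.eq
    · exact (commute_conj har c).symm.eq
    · rw [← hcs]; exact (commute_conj hby c).symm.eq
    · exact (commute_conj hbr c).symm.eq

theorem V_conj {a : G} (ha : a ∈ d.V) (ha1 : a ≠ 1) : IsConj d.v a := by
  obtain ⟨w, hw, hw1, -⟩ := Four.exists_ne d.W_card (1 : G)
  obtain ⟨w', hw', hw'1, hne⟩ := Four.exists_ne d.W_card w
  have hX2 : ∀ b ∈ d.W, b * b = 1 := fun b hb => by
    by_cases h : b = 1
    · rw [h, one_mul]
    · obtain ⟨c, hc⟩ := isConj_iff.1 (d.hW b hb h)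
      rw [← hc]; exact sq_one_conj d.v_sq c
  obtain ⟨r, hr, hr3, hrw, -⟩ := Sm.rot (Or.inr d.equiv_X) (d.W_le hw) (hX2 w hw) hw1 (d.W_le hw')
    (hX2 w' hw') hw'1 hne.symm (Four.commute hX2 hw hw')
  haveI : Fact (Nat.Prime 3) := ⟨Nat.prime_three⟩
  have hr1 : r ≠ 1 := fun e => hne (by rw [← hrw, e]; group)
  exact d.not_conj_s (d.V_sq ha) ha1 (orderOf_eq_prime (by rw [pow_three, ← mul_assoc]; exact hr3) hr1)
    (d.commute_VX a ha r hr) d.v_sq d.v_ne (d.V_sq d.u_mem) d.u_ne d.u_ne_v.symm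
    (d.V_comm d.v_mem d.u_mem) (d.V_comm d.v_mem ha) (d.commute_VX _ d.v_mem r hr)
    (d.V_comm d.u_mem ha) (d.commute_VX _ d.u_mem r hr)

theorem classify {y : d.cv} (hy : (y : G) * y = 1) (hy1 : (y : G) ≠ 1) :
    (STy (d.psi y) → IsConj d.s (y : G)) ∧ (¬ STy (d.psi y) → IsConj d.v (y : G)) := by
  haveI : Fact (Nat.Prime 3) := ⟨Nat.prime_three⟩
  by_cases hc : (y : G) ∈ d.cV
  · obtain ⟨a, ha, x, hx, he⟩ := d.mem_cV hc
    have hax : Commute a x := d.commute_VX a ha x hx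
    have hx2 : x * x = 1 := by
      have h : a * x * (a * x) = 1 := he ▸ hy
      rwa [hax.symm.mul_mul_mul_comm, d.V_sq ha, one_mul] at h
    have hp := d.psi_inner ha hx he
    have hconjW : x ≠ 1 → ∃ b ∈ d.W, b ≠ 1 ∧ ∃ c ∈ d.X, c * b * c⁻¹ = x := fun hx1 => by
      obtain ⟨w, hw, hw1, -⟩ := Four.exists_ne d.W_card (1 : G)
      obtain ⟨e, he'⟩ := isConj_iff.1 (d.hW w hw hw1)
      have hw2 : w * w = 1 := he' ▸ sq_one_conj d.v_sq e
      obtain ⟨c, hc, hcx⟩ := Sm.conj_inv (Or.inr d.equiv_X) (d.W_le hw) hw2 hw1 hx hx2 hx1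
      exact ⟨w, hw, hw1, c, hc, hcx⟩
    constructor
    · intro hs
      rw [hp] at hs
      have hx1 : x ≠ 1 := fun e => hs.2.2.2.1 (by
        rw [← map_one (img d.eX), (img_inj _).eq_iff]; exact Subtype.ext e)
      have ha1 : a ≠ 1 := fun e => hs.2.2.2.2 (by subst e; exact map_one d.p4)
      obtain ⟨b, hb, hb1, c, hcX, hcx⟩ := hconjW hx1
      refine (d.hVW a ha ha1 b hb hb1).trans (isConj_iff.2 ⟨c, ?_⟩)
      rw [conj_mul', hcx, show c * a * c⁻¹ = a from mul_inv_eq_iff_eq_mul.2 (d.commute_VX a ha c hcX).symm.eq, he]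
    · intro hs
      by_cases hx1 : x = 1
      · rw [hx1, mul_one] at he
        rw [he] at hy1 ⊢
        exact d.V_conj ha hy1
      · have ha1 : a = 1 := by
          by_contra ha1
          apply hs
          rw [hp]
          refine ⟨?_, (img_sq _).2 hx2, img_ev _ _, (img_ne_one _).2 hx1,
            fun e => ha1 ((d.p4_V ha).2 e)⟩
          rw [← map_mul, show (⟨a, _⟩ : d.cv) * ⟨a, _⟩ = 1 from Subtype.ext (d.V_sq ha), map_one]
        rw [ha1, one_mul] at he
        obtain ⟨b, hb, hb1, c, -, hcx⟩ := hconjW hx1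
        exact (d.hW b hb hb1).trans (isConj_iff.2 ⟨c, hcx.trans he.symm⟩)
  · have hsg := d.sign_q5_outer hc
    refine ⟨fun hs => ?_, fun _ => ?_⟩
    · exact absurd (hsg.symm.trans hs.2.2.1) (by decide)
    · obtain ⟨q, hq, hq3, hq1, hqc⟩ := cube_odd (d.q5 y) (by
        rw [← map_mul, show y * y = 1 from Subtype.ext hy, map_one]) hsg
      obtain ⟨⟨x, hx⟩, rfl⟩ := img_surj d.eX (show Ev q from hq)
      rw [← d.q5_X hx] at hqc
      have hcomm : Commute (y : G) x := by
        have h : d.q5 (y * ⟨x, d.X_le_cv hx⟩ * y⁻¹) = d.q5 ⟨x, d.X_le_cv hx⟩ := by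
          rw [map_mul, map_mul, map_inv]; exact mul_inv_eq_iff_eq_mul.2 hqc
        have hxX : (y : G) * x * (y : G)⁻¹ ∈ d.X := d.cv_normX y.2 hx
        rw [show y * ⟨x, d.X_le_cv hx⟩ * y⁻¹ = ⟨_, d.X_le_cv hxX⟩ from Subtype.ext rfl, d.q5_X hxX,
          d.q5_X hx] at h
        exact mul_inv_eq_iff_eq_mul.1 (congrArg Subtype.val (img_inj _ h))
      refine d.not_conj_s hy hy1 (orderOf_eq_prime (by
          rw [pow_three, ← mul_assoc]; exact (img_pow_three _).1 hq3) ((img_ne_one _).1 hq1))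
        hcomm d.v_sq d.v_ne hy hy1 (fun e => hc (e ▸ d.V_le_cV d.v_mem)) (d.mem_cv.1 y.2).symm
        (d.mem_cv.1 y.2).symm (d.commute_VX _ d.v_mem x hx) (Commute.refl _) hcomm

theorem inv_of_conj {a y : G} (h2 : a * a = 1) (h : IsConj a y) : y * y = 1 := by
  obtain ⟨c, rfl⟩ := isConj_iff.1 h
  exact sq_one_conj h2 c

theorem conj_s_iff {y : d.cv} : IsConj d.s (y : G) ↔ STy (d.psi y) := by
  have hss : d.s * d.s = 1 := by rw [← sq, ← d.ord_s, pow_orderOf_eq_one]
  constructor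
  · intro h
    have hy := inv_of_conj hss h
    have hy1 : (y : G) ≠ 1 := fun e => by
      rw [e, isConj_one_left] at h
      exact absurd d.ord_s (by rw [h, orderOf_one]; norm_num)
    by_contra hs
    exact d.not_conj (h.trans ((d.classify hy hy1).2 hs).symm)
  · intro h
    have hy : (y : G) * y = 1 := by
      have e : d.psi (y * y) = d.psi 1 := by
        rw [map_mul, map_one]; exact Prod.ext h.1 h.2.1
      exact congrArg Subtype.val (d.psi_injective e)
    have hy1 : (y : G) ≠ 1 := fun e => h.2.2.2.1 (by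
      rw [show y = 1 from Subtype.ext e, map_one]; rfl)
    exact (d.classify hy hy1).1 h

theorem conj_v_iff {y : d.cv} : IsConj d.v (y : G) ↔ VTy (d.psi y) := by
  constructor
  · intro h
    have hy := inv_of_conj d.v_sq h
    have hy1 : (y : G) ≠ 1 := fun e => by
      rw [e, isConj_one_left] at h
      exact d.v_ne h
    have hns : ¬ STy (d.psi y) := fun hs => d.not_conj ((d.conj_s_iff.2 hs).trans h.symm)
    have e : d.psi y * d.psi y = 1 := by rw [← map_mul, show y * y = 1 from Subtype.ext hy, map_one]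
    have e1 : (d.psi y).1 * (d.psi y).1 = 1 := congrArg Prod.fst e
    have e2 : (d.psi y).2 * (d.psi y).2 = 1 := congrArg Prod.snd e
    refine ⟨e1, e2, ?_, fun hh => hns ⟨e1, e2, hh⟩⟩
    by_contra hne
    push Not at hne
    exact hy1 (congrArg Subtype.val (d.psi_injective (show d.psi y = d.psi 1 by
      rw [map_one]; exact Prod.ext hne.1 hne.2)))
  · intro h
    have hy : (y : G) * y = 1 := by
      have e : d.psi (y * y) = d.psi 1 := by
        rw [map_mul, map_one]; exact Prod.ext h.1 h.2.1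
      exact congrArg Subtype.val (d.psi_injective e)
    have hy1 : (y : G) ≠ 1 := fun e => by
      rw [show y = 1 from Subtype.ext e, map_one] at h
      exact h.2.2.1.elim (fun h => h rfl) (fun h => h rfl)
    exact (d.classify hy hy1).2 fun hs => h.2.2.2 ⟨hs.2.2.1, hs.2.2.2.1, hs.2.2.2.2⟩

theorem mem_cv_of {a b : G} (ha : a * a = 1) (hb : b * b = 1) (h : d.v ∈ zpowers (a * b)) :
    a ∈ d.cv ∧ b ∈ d.cv := by
  obtain ⟨k, hk⟩ := mem_zpowers_iff.1 h
  have inverts : ∀ c, c * (a * b) * c⁻¹ = (a * b)⁻¹ → Commute c d.v := fun c hc => by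
    refine mul_inv_eq_iff_eq_mul.1 ?_
    rw [← hk, ← conj_zpow, hc, inv_zpow, hk]
    exact inv_of_sq d.v_sq
  refine ⟨d.mem_cv.2 (inverts a ?_), d.mem_cv.2 (inverts b ?_)⟩
  · rw [mul_inv_rev, inv_of_sq hb, inv_of_sq ha, ← mul_assoc a a, ha, one_mul]
  · rw [mul_inv_rev, inv_of_sq ha, inv_of_sq hb, ← mul_assoc, mul_assoc (b * a), hb, mul_one]

theorem zpow_iff (y y' : d.cv) :
    d.v ∈ zpowers ((y : G) * y') ↔ VPow (d.psi y * d.psi y') := by
  rw [← map_mul, ← mem_powers_iff_mem_zpowers, ← vpow_iff (d.psi_inK (y * y')).1]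
  constructor
  · rintro ⟨k, hk⟩
    refine ⟨k, ?_⟩
    rw [Prod.mk.eta, ← map_pow, ← d.psi_v]
    exact congrArg _ (Subtype.ext hk)
  · rintro ⟨k, hk⟩
    rw [Prod.mk.eta, ← map_pow, ← d.psi_v] at hk
    exact ⟨k, congrArg Subtype.val (d.psi_injective hk)⟩

set_option maxRecDepth 40000 in
/-- `a(v) = 555`. -/
theorem pairs_v :
    Nat.card {p : G × G // IsConj d.s p.1 ∧ IsConj d.v p.2 ∧ d.v ∈ zpowers (p.1 * p.2)} = 555 := by
  classical
  set S := ((Finset.univ.filter fun m => InK m ∧ STy m) ×ˢ (Finset.univ.filter fun m => InK m ∧ VTy m)).filter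
    fun p => VPow (p.1 * p.2) with hS
  rw [← card_pairs, ← Fintype.card_coe, ← Nat.card_eq_fintype_card, ← hS]
  have hss : d.s * d.s = 1 := by rw [← sq, ← d.ord_s, pow_orderOf_eq_one]
  have hmem : ∀ p : {p : G × G // IsConj d.s p.1 ∧ IsConj d.v p.2 ∧ d.v ∈ zpowers (p.1 * p.2)},
      p.1.1 ∈ d.cv ∧ p.1.2 ∈ d.cv := fun p =>
    d.mem_cv_of (inv_of_conj hss p.2.1) (inv_of_conj d.v_sq p.2.2.1) p.2.2.2
  have hS' : ∀ m₁ m₂, ((m₁, m₂) : (Perm (Fin 4) × Perm (Fin 5)) × (Perm (Fin 4) × Perm (Fin 5))) ∈ S ↔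
      ((InK m₁ ∧ STy m₁) ∧ InK m₂ ∧ VTy m₂) ∧ VPow (m₁ * m₂) := fun m₁ m₂ => by
    simp only [hS, Finset.mem_filter, Finset.mem_product, Finset.mem_univ, true_and]
  clear_value S
  let f : {p : G × G // IsConj d.s p.1 ∧ IsConj d.v p.2 ∧ d.v ∈ zpowers (p.1 * p.2)} → S := fun p =>
    ⟨(d.psi ⟨_, (hmem p).1⟩, d.psi ⟨_, (hmem p).2⟩), (hS' _ _).2
      ⟨⟨⟨d.psi_inK _, d.conj_s_iff.1 p.2.1⟩, d.psi_inK _, d.conj_v_iff.1 p.2.2.1⟩,
      (d.zpow_iff _ _).1 p.2.2.2⟩⟩
  refine Nat.card_congr (Equiv.ofBijective f ⟨fun p q h => ?_, fun m => ?_⟩)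
  · have h' := congrArg Subtype.val h
    exact Subtype.ext (Prod.ext
      (congrArg Subtype.val (d.psi_injective (congrArg Prod.fst h')))
      (congrArg Subtype.val (d.psi_injective (congrArg Prod.snd h'))))
  · obtain ⟨⟨m₁, m₂⟩, hm⟩ := m
    obtain ⟨⟨⟨h1, h1'⟩, h2, h2'⟩, h3⟩ := (hS' _ _).1 hm
    obtain ⟨y, rfl⟩ := d.psi_surj h1
    obtain ⟨y', rfl⟩ := d.psi_surj h2
    exact ⟨⟨((y : G), (y' : G)), d.conj_s_iff.2 h1', d.conj_v_iff.2 h2', (d.zpow_iff _ _).2 h3⟩,
      Subtype.ext rfl⟩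

include d in
/-- The order of the group. -/
theorem card_eq : Nat.card G = 181440 := by
  rw [Cfsg.Agent.S0213.result d.s d.v d.ord_s d.ord_v d.not_conj d.classes, d.card_cent, d.pairs_s,
    d.card_cent_s, d.pairs_v]

end Count

end Cfsg.Agent.H14.S3344Rec
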