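import Mathlib

/-!
Finite facts about `A_4`, `A_5` and `S_5` used by the recognition of `A_8` and `A_9`.
-/

set_option autoImplicit false

namespace Cfsg.Agent.H14.S3344Rec

open Equiv

/-- an even permutation -/
abbrev Ev {n : ℕ} (a : Perm (Fin n)) : Prop := Perm.sign a = 1

set_option maxRecDepth 20000 in
set_option synthInstance.maxSize 4000 in
set_option synthInstance.maxHeartbeats 1000000 in
theorem fact_inv4 : ∀ a : Perm (Fin 4), Ev a → a * a = 1 → a ≠ 1 →
    ∀ c : Perm (Fin 4), Ev c → c * a = a * c → c * c = 1 ∧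
      ∀ d : Perm (Fin 4), Ev d → d * a = a * d → c * d = d * c := by
  decide +kernel

set_option maxRecDepth 20000 in
set_option synthInstance.maxSize 4000 in
set_option synthInstance.maxHeartbeats 1000000 in
theorem fact_card4 : ∀ a : Perm (Fin 4), Ev a → a * a = 1 → a ≠ 1 →
    (Finset.univ.filter fun c : Perm (Fin 4) => Ev c ∧ c * a = a * c).card = 4 := by
  decide +kernel

set_option maxRecDepth 20000 in
set_option synthInstance.maxSize 4000 in
set_option synthInstance.maxHeartbeats 1000000 in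
theorem fact_conj4 : ∀ a : Perm (Fin 4), Ev a → a * a = 1 → a ≠ 1 →
    ∀ b : Perm (Fin 4), Ev b → b * b = 1 → b ≠ 1 → ∃ c : Perm (Fin 4), Ev c ∧ c * a = b * c := by
  decide +kernel

set_option maxRecDepth 20000 in
set_option synthInstance.maxSize 4000 in
set_option synthInstance.maxHeartbeats 1000000 in
theorem fact_rot4 : ∀ a : Perm (Fin 4), Ev a → a * a = 1 → a ≠ 1 →
    ∀ b : Perm (Fin 4), Ev b → b * b = 1 → b ≠ 1 → a ≠ b → a * b = b * a →
    ∃ r : Perm (Fin 4), Ev r ∧ r * r * r = 1 ∧ r * a = b * r ∧ r * b = a * b * r := by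
  decide +kernel

set_option maxRecDepth 20000 in
set_option synthInstance.maxSize 4000 in
set_option synthInstance.maxHeartbeats 1000000 in
theorem fact_gen4 : ∀ b : Perm (Fin 4), Ev b →
    ∃ a : Perm (Fin 4), Ev a ∧ a * a * a = 1 ∧ a * b * (a * b) * (a * b) = 1 := by
  decide +kernel

set_option maxRecDepth 20000 in
set_option synthInstance.maxSize 4000 in
set_option synthInstance.maxHeartbeats 1000000 in
theorem fact_three4 : ∀ r : Perm (Fin 4), Ev r → r * r * r = 1 → r ≠ 1 →
    ∀ c : Perm (Fin 4), Ev c → c * r = r * c → c = 1 ∨ c = r ∨ c = r * r := by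
  decide +kernel

set_option maxRecDepth 20000 in
set_option synthInstance.maxSize 4000 in
set_option synthInstance.maxHeartbeats 1000000 in
theorem fact_fix4 : ∀ π : Perm (Fin 4), π * π * π = 1 → π ≠ 1 →
    ∀ a : Perm (Fin 4), Ev a → a * a = 1 → a ≠ 1 → π * a ≠ a * π := by
  decide +kernel

set_option maxRecDepth 20000 in
set_option synthInstance.maxSize 4000 in
set_option synthInstance.maxHeartbeats 1000000 in
theorem fact_inv5 : ∀ a : Perm (Fin 5), Ev a → a * a = 1 → a ≠ 1 →
    ∀ c : Perm (Fin 5), Ev c → c * a = a * c → c * c = 1 ∧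
      ∀ d : Perm (Fin 5), Ev d → d * a = a * d → c * d = d * c := by
  decide +kernel

set_option maxRecDepth 20000 in
set_option synthInstance.maxSize 4000 in
set_option synthInstance.maxHeartbeats 1000000 in
theorem fact_card5 : ∀ a : Perm (Fin 5), Ev a → a * a = 1 → a ≠ 1 →
    (Finset.univ.filter fun c : Perm (Fin 5) => Ev c ∧ c * a = a * c).card = 4 := by
  decide +kernel

set_option maxRecDepth 20000 in
set_option synthInstance.maxSize 4000 in
set_option synthInstance.maxHeartbeats 1000000 in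
theorem fact_conj5 : ∀ a : Perm (Fin 5), Ev a → a * a = 1 → a ≠ 1 →
    ∀ b : Perm (Fin 5), Ev b → b * b = 1 → b ≠ 1 → ∃ c : Perm (Fin 5), Ev c ∧ c * a = b * c := by
  decide +kernel

set_option maxRecDepth 20000 in
set_option synthInstance.maxSize 4000 in
set_option synthInstance.maxHeartbeats 1000000 in
theorem fact_rot5 : ∀ a : Perm (Fin 5), Ev a → a * a = 1 → a ≠ 1 →
    ∀ b : Perm (Fin 5), Ev b → b * b = 1 → b ≠ 1 → a ≠ b → a * b = b * a →
    ∃ r : Perm (Fin 5), Ev r ∧ r * r * r = 1 ∧ r * a = b * r ∧ r * b = a * b * r := by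
  decide +kernel

set_option maxRecDepth 20000 in
set_option synthInstance.maxSize 4000 in
set_option synthInstance.maxHeartbeats 1000000 in
theorem fact_gen5 : ∀ b : Perm (Fin 5), Ev b →
    ∃ a : Perm (Fin 5), Ev a ∧ a * a * a = 1 ∧ a * b * (a * b) * (a * b) = 1 := by
  decide +kernel

set_option maxRecDepth 20000 in
set_option synthInstance.maxSize 4000 in
set_option synthInstance.maxHeartbeats 1000000 in
theorem fact_three5 : ∀ r : Perm (Fin 5), Ev r → r * r * r = 1 → r ≠ 1 →
    ∀ c : Perm (Fin 5), Ev c → c * r = r * c → c = 1 ∨ c = r ∨ c = r * r := by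
  decide +kernel

set_option maxRecDepth 20000 in
set_option synthInstance.maxSize 4000 in
set_option synthInstance.maxHeartbeats 1000000 in
theorem fact_fix5 : ∀ π : Perm (Fin 5), π * π * π = 1 → π ≠ 1 →
    ∀ a : Perm (Fin 5), Ev a → a * a = 1 → a ≠ 1 → π * a ≠ a * π := by
  decide +kernel

set_option maxRecDepth 20000 in
set_option synthInstance.maxSize 4000 in
set_option synthInstance.maxHeartbeats 1000000 in
theorem fact_noinv4 : ∀ r : Perm (Fin 4), Ev r → r * r * r = 1 → r ≠ 1 →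
    ∀ c : Perm (Fin 4), Ev c → c * r * c⁻¹ ≠ r⁻¹ := by
  decide +kernel

set_option maxRecDepth 20000 in
set_option synthInstance.maxSize 4000 in
set_option synthInstance.maxHeartbeats 1000000 in
theorem fact_conjThree5 : ∀ r : Perm (Fin 5), Ev r → r * r * r = 1 → r ≠ 1 →
    ∀ x : Perm (Fin 5), Ev x → x * x * x = 1 → x ≠ 1 → ∃ c : Perm (Fin 5), Ev c ∧ c * r = x * c := by
  decide +kernel

set_option maxRecDepth 20000 in
set_option synthInstance.maxSize 4000 in
set_option synthInstance.maxHeartbeats 1000000 in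
theorem fact_inverting5 : ∀ r : Perm (Fin 5), Ev r → r * r * r = 1 → r ≠ 1 →
    ∃ t : Perm (Fin 5), Ev t ∧ t * t = 1 ∧ t ≠ 1 ∧ t * r * t = r⁻¹ := by
  decide +kernel

set_option maxRecDepth 20000 in
set_option synthInstance.maxSize 4000 in
set_option synthInstance.maxHeartbeats 1000000 in
theorem fact_dich4 : ∀ x : Perm (Fin 4), Ev x → x * x * x = 1 → x ≠ 1 →
    ∀ y : Perm (Fin 4), Ev y → y * y * y = 1 → y ≠ 1 → y ≠ x → y ≠ x⁻¹ →
    x * y * (x * y) = 1 ∨ x⁻¹ * y * (x⁻¹ * y) = 1 := by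
  decide +kernel

set_option maxRecDepth 20000 in
set_option synthInstance.maxSize 4000 in
set_option synthInstance.maxHeartbeats 1000000 in
theorem fact_dich5 : ∀ α : Perm (Fin 5), α * α = 1 → ∀ τ : Perm (Fin 5), τ * τ = 1 →
    α * (τ * α * τ) = τ * α * τ * α → ∀ x : Perm (Fin 5), Ev x → x * x * x = 1 → x ≠ 1 →
    τ * α * τ * x * (τ * α * τ) = x⁻¹ → α * x * α ≠ x → α * x * α ≠ x⁻¹ →
      x * (τ * x * τ) * (x * (τ * x * τ)) = 1 ∨ x⁻¹ * (τ * x * τ) * (x⁻¹ * (τ * x * τ)) = 1 := by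
  decide +kernel

set_option maxRecDepth 20000 in
set_option synthInstance.maxSize 4000 in
set_option synthInstance.maxHeartbeats 1000000 in
theorem fact_pick5 : ∀ π : Perm (Fin 5), π * π = 1 → Perm.sign π = -1 →
    ∀ r : Perm (Fin 5), Ev r → r * r * r = 1 → r ≠ 1 → π * r * π = r⁻¹ →
    ∀ w : Perm (Fin 5), Ev w → w * w = 1 → w ≠ 1 → π * w = w * π → w * r * (w * r) * (w * r) = 1 →
    ∃ x : Perm (Fin 5), Ev x ∧ x * x * x = 1 ∧ x ≠ 1 ∧ π * x = x * π ∧
      x * (r * x * r⁻¹) * (x * (r * x * r⁻¹)) = 1 ∧ w * x * w = x⁻¹ ∧ x * r ≠ r * x ∧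
      x * w * x⁻¹ * w ≠ w * (x * w * x⁻¹) := by
  decide +kernel

set_option maxRecDepth 20000 in
set_option synthInstance.maxSize 4000 in
set_option synthInstance.maxHeartbeats 1000000 in
theorem fact_oddFix5 : ∀ π : Perm (Fin 5), π * π = 1 → Perm.sign π = -1 →
    ∃ x : Perm (Fin 5), Ev x ∧ x * x * x = 1 ∧ x ≠ 1 ∧ π * x = x * π := by
  decide +kernel

set_option maxRecDepth 20000 in
set_option synthInstance.maxSize 4000 in
set_option synthInstance.maxHeartbeats 1000000 in
theorem fact_oddInv5 : ∀ π : Perm (Fin 5), π * π = 1 → Perm.sign π = -1 →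
    ∀ z : Perm (Fin 5), Ev z → z * z * z = 1 → z ≠ 1 → π * z * π = z⁻¹ →
    ∃ c : Perm (Fin 5), Ev c ∧ c * c = 1 ∧ c * z * c = z⁻¹ ∧ π * c = c * π := by
  decide +kernel

end Cfsg.Agent.H14.S3344Rec
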